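import Cfsg.Agent.Lib.CosetEnum.LyRep.Orbit
import Cfsg.Agent.Lib.CosetEnum.LyP.Dce.Final

/-!
The presented Lyons group: the image of `P` has index 8835156 and the group is simple of order
51765179004000000.
-/

set_option autoImplicit false
set_option maxRecDepth 100000
set_option Elab.async false

namespace Cfsg.Agent.Lib.CosetEnum.LyRep

open Cfsg.Spor Cfsg.Agent.Lib.CosetEnum Cfsg.Agent.Lib.CosetEnum.LyP Cfsg.Agent.Lib.CosetEnum.LyP.Dce

/-- The generators of `K` as products of the generators of the stabiliser of the second node. -/
def kExpr : List (List (ℕ × Bool)) :=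
  [[(3, true), (3, true), (3, true), (3, true)], [(0, true), (3, true), (2, false), (3, false), (1, true), (2, false), (0, true)], [(0, true), (2, false), (1, false), (0, true), (2, true)], [(2, false), (2, false), (0, false), (3, true), (2, true), (3, false), (0, false)], [(2, false), (1, true), (2, false), (1, true)], [(2, false), (3, false), (0, false), (3, true), (2, true), (0, true), (2, true), (3, false)], [(0, false), (2, false), (3, true), (2, true), (1, true), (0, false), (3, false), (0, false)], [(0, false), (0, false), (1, true), (0, true), (1, false), (1, false), (0, false), (0, false)]]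

theorem kExpr_ok : ((List.range kData.kGen.length).all fun j =>
    wordEq (kData.kGen.getD j []) (genWord (nodeAt fullCert.nds 1).gens (kExpr.getD j []))) = true := by
  decide +kernel

theorem kGroup_le : kGroup kData ≤ fullCert.stab 1 := by
  refine (Subgroup.closure_le _).2 ?_
  rintro _ ⟨s, hs, rfl⟩
  obtain ⟨j, hj, rfl⟩ := List.mem_iff_getElem.1 hs
  have h := List.all_eq_true.1 kExpr_ok j (List.mem_range.2 hj)
  rw [List.getD_eq_getElem _ _ hj] at h
  rw [SetLike.mem_coe, val_eq_of_wordEq h]
  exact (genWord_spec ((fullCert.node_ok 1 (show 1 < 5 by omega)).gens_ok) _).2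

theorem el_eq_toLy : ∀ w : List ℕ, (∀ g ∈ w, g < 8) → el w = toLy (val w)
  | [], _ => by rw [Dce.val_nil, map_one]; simp [el]
  | g :: w, h => by
    have hg := h g List.mem_cons_self
    have he : elL g = toLy (val [g]) := by
      rw [toLy_letter (by omega)]
      interval_cases g <;> simp [elL, letGen, letterFree] <;> rfl
    rw [show g :: w = [g] ++ w from rfl, Dce.val_append, map_mul, el_append, ← he,
      el_eq_toLy w fun x hx => h x (List.mem_cons_of_mem _ hx)]
    simp [el]

/-- The class words of the second node other than the empty one. -/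
noncomputable def clsWords : List (List ℕ) := ((nodeAt fullCert.nds 1).classes.map Prod.fst).tail

theorem cls_head : ((nodeAt fullCert.nds 1).classes.map Prod.fst).head? = some [] := by decide +kernel

theorem cls_test : (clsWords.all fun w =>
    (w.all fun g => Nat.blt g 8) && !presTest (8 :: (w ++ [9]))) = true := by decide +kernel

/-- An element of a node stabiliser lies in the stabiliser of the node representative. -/
theorem map_stab_le (i : ℕ) (hi : i < 5) :
    (fullCert.stab i).map toLy.rangeRestrict ≤ stab toLy.range (gLy i) := by
  rintro _ ⟨q, hq, rfl⟩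
  exact (mem_stab _).2 (stab_conj hi hq)

theorem index_map (H : Subgroup (PresentedGroup pres)) :
    (H.map toLy.rangeRestrict).index = H.index :=
  Subgroup.index_map_of_bijective (f := toLy.rangeRestrict)
    ⟨fun _ _ e => toLy_injective (congrArg Subtype.val e), toLy.rangeRestrict_surjective⟩ H

theorem stab_one_index : (stab toLy.range (gLy 1)).index = 19530 := by
  set ρ := toLy.rangeRestrict with hρ
  have hK : (kGroup kData).map ρ ≤ stab toLy.range (gLy 1) :=
    (Subgroup.map_mono kGroup_le).trans (map_stab_le 1 (by omega))
  have hbig : (fullCert.stab 1).map ρ ≤ stab toLy.range (gLy 1) := map_stab_le 1 (by omega)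
  let S1 : Subgroup toLy.range := (fullCert.stab 1).map ρ
  have h : stab toLy.range (gLy 1) = S1 := by
    refine stab_eq_of_reps toLy.range hbig (clsWords.map fun w => ρ (val w)) ?_ ?_
    · intro p
      obtain ⟨q, rfl⟩ := toLy.rangeRestrict_surjective p
      obtain ⟨σ, hσ, m, hm, k, hk, e⟩ :=
        (fullCert.node_ok 1 (show 1 < 5 by omega)).decomp fullCert.fibre_ok fullCert.trans q
      have hkS : ρ k ∈ S1 := Subgroup.mem_map_of_mem _ (kGroup_le hk)
      have hsS : ρ σ ∈ S1 := Subgroup.mem_map_of_mem _ hσ
      set w := ((nodeAt fullCert.nds 1).classes.getD m ([], 0)).1 with hw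
      have hmem : w ∈ (nodeAt fullCert.nds 1).classes.map Prod.fst := by
        rw [hw, List.getD_eq_getElem _ _ hm]
        exact List.mem_map_of_mem (List.getElem_mem hm)
      rw [List.eq_cons_of_mem_head? cls_head] at hmem
      rcases List.mem_cons.1 hmem with h0 | h1
      · left
        rw [e, h0, Dce.val_nil, mul_one, map_mul]
        exact mul_mem hsS hkS
      · exact Or.inr ⟨ρ (val w), List.mem_map_of_mem h1, ρ σ, hsS, ρ k, hkS,
          by rw [e, map_mul, map_mul]⟩
    · intro y hy hc
      obtain ⟨w, hw, rfl⟩ := List.mem_map.1 hy
      have ht := List.all_eq_true.1 cls_test w hw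
      simp only [Bool.and_eq_true, List.all_eq_true, Nat.blt_eq, Bool.not_eq_true'] at ht
      refine notMem_range (w := 8 :: (w ++ [9])) (fun g hg => ?_) ht.2 ?_
      · simp only [List.mem_cons, List.mem_append, List.not_mem_nil, or_false] at hg
        rcases hg with rfl | hg | rfl <;> first | omega | exact lt_trans (ht.1 g hg) (by omega)
      · rw [show 8 :: (w ++ [9]) = [8] ++ (w ++ [9]) from rfl, el_append, el_append,
          el_eq_toLy w ht.1]
        rw [gLy_one] at hc
        simpa [el, elL, letGen, lyZ, hρ, mul_assoc] using hc
  rw [h, index_map, index_stab 1 (by omega)]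
  rfl

theorem cover_ly : Cover (G := Ly) toLy.range (fun i : Fin 5 => gLy i.1) where
  card_P := card_range
  simple := by
    haveI := G25.isSimple_P
    haveI : Nontrivial toLy.range :=
      Finite.one_lt_card_iff_nontrivial.1 (by rw [card_range]; norm_num)
    exact IsSimpleGroup.isSimpleGroup_of_surjective _ toLy.rangeRestrict_surjective
  one := gLy_zero
  cover := fun y => by
    obtain ⟨i, hi, p, q, e⟩ := Dce.cover y
    exact ⟨⟨i, hi⟩, toLy p, ⟨p, rfl⟩, toLy q, ⟨q, rfl⟩, e⟩
  first := stab_one_index
  dvd := fun i _ => by
    have h := Subgroup.index_dvd_of_le (map_stab_le i.1 i.2)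
    rw [index_map, index_stab i.1 i.2] at h
    refine h.trans (dvd_of_eq ?_)
    fin_cases i <;> rfl
  div := dvd_index

/-- The index of the image of `P` in the presented Lyons group. -/
theorem index_range : toLy.range.index = 8835156 := cover_ly.index_eq

/-- The order of the presented Lyons group. -/
theorem card_ly : Nat.card Ly = 51765179004000000 := cover_ly.card_eq

/-- The presented Lyons group is simple. -/
theorem isSimple_ly : IsSimpleGroup Ly := cover_ly.isSimple

/-- The image of `P` is a maximal subgroup. -/
theorem range_maximal {H : Subgroup Ly} (h : toLy.range ≤ H) : H = toLy.range ∨ H = ⊤ :=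
  cover_ly.maximal h

end Cfsg.Agent.Lib.CosetEnum.LyRep
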