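import Cfsg.Agent.Lib.CosetEnum.LyRep.Word

/-! Relators 76 to 85 hold for the matrices. -/

set_option autoImplicit false
set_option maxRecDepth 100000
set_option Elab.async false

namespace Cfsg.Agent.Lib.CosetEnum.LyRep

theorem rels3 : ((List.range' 76 10).all relOK) = true := by decide +kernel

end Cfsg.Agent.Lib.CosetEnum.LyRep
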