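import Cfsg.Agent.Lib.CosetEnum.LyRep.Hom
import Cfsg.Agent.Lib.CosetEnum.LyP.Hom
import Cfsg.Agent.Lib.CosetEnum.LyP.G25.Iso

/-!
Consequences of the 111-dimensional representation: the map from `P` to the presented Lyons group is
injective, the order of the presented group is divisible by 11, 37 and 67, and a test showing that a word
lies outside the image of `P`, which fixes the span of the last seven coordinates.
-/

set_option autoImplicit false
set_option maxRecDepth 100000
set_option Elab.async false

namespace Cfsg.Agent.Lib.CosetEnum.LyRep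

open Cfsg.Spor Matrix

/-- The generator of a letter. -/
def letGen : ℕ → Ly.Gen
  | 0 => .a | 1 => .a | 2 => .b | 3 => .b | 4 => .c | 5 => .c | 6 => .d | 7 => .d | _ => .z

/-- A letter in the presented group. -/
noncomputable def elL (g : ℕ) : Ly :=
  if g % 2 = 0 then PresentedGroup.of (letGen g) else (PresentedGroup.of (letGen g))⁻¹

/-- A word in the presented group. -/
noncomputable def el (w : List ℕ) : Ly := (w.map elL).prod

theorem el_append (u v : List ℕ) : el (u ++ v) = el u * el v := by simp [el]

theorem rho_elL {g : ℕ} (hg : g < 10) : rho (elL g) = unitL g := by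
  obtain rfl | rfl | rfl | rfl | rfl | rfl | rfl | rfl | rfl | rfl :
      g = 0 ∨ g = 1 ∨ g = 2 ∨ g = 3 ∨ g = 4 ∨ g = 5 ∨ g = 6 ∨ g = 7 ∨ g = 8 ∨ g = 9 := by omega
  all_goals
    simp only [elL, letGen]
    norm_num
    rw [rho_of]
  all_goals simp only [img, unitW, List.map_cons, List.map_nil, List.prod_cons, List.prod_nil, mul_one]
  all_goals rw [← unitL_flip (by norm_num)]; rfl

theorem rho_el : ∀ w : List ℕ, (∀ g ∈ w, g < 10) → rho (el w) = unitW w
  | [], _ => by simp [el, unitW]
  | g :: w, h => by
    have ih := rho_el w fun x hx => h x (List.mem_cons_of_mem _ hx)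
    simp only [el, unitW, List.map_cons, List.prod_cons, map_mul] at ih ⊢
    rw [ih, rho_elL (h g List.mem_cons_self)]

/-- The last seven rows vanish in the first 104 columns. -/
noncomputable def fixTest (X : ℕ) : Bool :=
  (List.range 7).all fun i => (List.range 104).all fun j => Nat.beq (lane X ((104 + i) * 111 + j)) 0

/-- The word maps the span of the last seven coordinates to itself. -/
noncomputable def presTest (w : List ℕ) : Bool := force (evalFrom w idN) fixTest

/-- The span of the last seven coordinates is mapped to itself. -/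
def Fix7 (A : Matrix (Fin 111) (Fin 111) (ZMod 5)) : Prop :=
  ∀ i j : Fin 111, 104 ≤ i.1 → j.1 < 104 → A i j = 0

theorem fix7_mul {A B : Matrix (Fin 111) (Fin 111) (ZMod 5)} (hA : Fix7 A) (hB : Fix7 B) :
    Fix7 (A * B) := by
  intro i j hi hj
  rw [Matrix.mul_apply]
  refine Finset.sum_eq_zero fun k _ => ?_
  by_cases hk : k.1 < 104
  · rw [hA i k hi hk, zero_mul]
  · rw [hB k j (by omega) hj, mul_zero]

theorem fix7_iff (w : List ℕ) (hw : ∀ g ∈ w, g < 10) :
    Fix7 ((unitW w : _) : Matrix (Fin 111) (Fin 111) (ZMod 5)) ↔ presTest w = true := by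
  obtain ⟨hs, hm⟩ := evalFrom_spec w idN idN_mat.1
  rw [idN_mat.2, one_mul] at hm
  have hv : ((unitW w : _) : Matrix (Fin 111) (Fin 111) (ZMod 5)) = (w.map matL).prod := by
    clear hs hm
    induction w with
    | nil => simp [unitW]
    | cons g v ih =>
      have hg := hw g List.mem_cons_self
      rw [unitW, List.map_cons, List.prod_cons, Units.val_mul, List.map_cons, List.prod_cons,
        ← unitW, ih fun x hx => hw x (List.mem_cons_of_mem _ hx), unitL, dif_pos hg]
  rw [hv, ← hm, presTest, force_eq, fixTest]
  simp only [List.all_eq_true, List.mem_range, Nat.beq_eq]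
  have key : ∀ t, t < 111 * 111 →
      (((lane (evalFrom w idN) t : ℕ) : ZMod 5) = 0 ↔ lane (evalFrom w idN) t = 0) := by
    intro t ht
    rw [ZMod.natCast_eq_zero_iff]
    have := hs t ht
    omega
  constructor
  · intro h i hi j hj
    exact (key _ (by omega)).1 (h ⟨104 + i, by omega⟩ ⟨j, by omega⟩ (by simp) hj)
  · intro h i j hi hj
    have := h (i.1 - 104) (by omega) j.1 hj
    rw [Nat.add_sub_cancel' hi] at this
    exact (key _ (by omega)).2 this

/-- The elements whose matrices, and those of their inverses, fix the span of the last seven coordinates. -/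
noncomputable def fixSub : Subgroup Ly where
  carrier := {x | Fix7 ((rho x : _) : Matrix (Fin 111) (Fin 111) (ZMod 5)) ∧
    Fix7 ((rho x⁻¹ : _) : Matrix (Fin 111) (Fin 111) (ZMod 5))}
  one_mem' := by
    have h : Fix7 (1 : Matrix (Fin 111) (Fin 111) (ZMod 5)) := fun i j hi hj =>
      Matrix.one_apply_ne fun e => absurd (congrArg Fin.val e) (by omega)
    simp [h]
  mul_mem' := by
    rintro x y ⟨hx, hx'⟩ ⟨hy, hy'⟩
    refine ⟨?_, ?_⟩
    · rw [map_mul, Units.val_mul]; exact fix7_mul hx hy
    · rw [_root_.mul_inv_rev, map_mul, Units.val_mul]; exact fix7_mul hy' hx'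
  inv_mem' := by
    rintro x ⟨hx, hx'⟩
    exact ⟨hx', by rwa [inv_inv]⟩

theorem fix_letters : (List.range 8).all (fun g => presTest [g]) = true := by decide +kernel

theorem abcd_le_fixSub : (Subgroup.closure ({Ly.a, Ly.b, Ly.c, Ly.d} : Set (FreeGroup Ly.Gen))).map
    (PresentedGroup.mk LyP.lyRels) ≤ fixSub := by
  rw [MonoidHom.map_closure, Subgroup.closure_le]
  have key : ∀ g < 8, g % 2 = 0 → elL g ∈ fixSub := by
    intro g hg he
    have h := List.all_eq_true.1 fix_letters
    have hf : flipL g = g + 1 := by simp [flipL, he]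
    have h1 := (fix7_iff [g] (by simp; omega)).2 (h g (List.mem_range.2 hg))
    have h2 := (fix7_iff [g + 1] (by simp; omega)).2 (h (g + 1) (List.mem_range.2 (by omega)))
    simp only [unitW, List.map_cons, List.map_nil, List.prod_cons, List.prod_nil, mul_one] at h1 h2
    refine ⟨?_, ?_⟩
    · rwa [rho_elL (by omega)]
    · rwa [map_inv, rho_elL (by omega), ← unitL_flip (by omega), hf]
  rintro _ ⟨x, hx, rfl⟩
  simp only [Set.mem_insert_iff, Set.mem_singleton_iff] at hx
  rcases hx with rfl | rfl | rfl | rfl
  · exact key 0 (by norm_num) rfl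
  · exact key 2 (by norm_num) rfl
  · exact key 4 (by norm_num) rfl
  · exact key 6 (by norm_num) rfl

/-- A word failing the test lies outside the image of `P`. -/
theorem notMem_range {w : List ℕ} (hw : ∀ g ∈ w, g < 10) (h : presTest w = false) :
    el w ∉ LyP.toLy.range := by
  intro hm
  rw [LyP.toLy_range_eq] at hm
  have h1 := (abcd_le_fixSub hm).1
  rw [rho_el w hw, fix7_iff w hw, h] at h1
  exact Bool.false_ne_true h1

theorem val_unitW {w : List ℕ} (hw : ∀ g ∈ w, g < 10) :
    ((unitW w : _) : Matrix (Fin 111) (Fin 111) (ZMod 5)) = toMat 111 (evalFrom w idN) := by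
  obtain ⟨-, hm⟩ := evalFrom_spec w idN idN_mat.1
  rw [hm, idN_mat.2, one_mul]
  clear hm
  induction w with
  | nil => simp [unitW]
  | cons g v ih =>
    have hg := hw g List.mem_cons_self
    rw [unitW, List.map_cons, List.prod_cons, Units.val_mul, List.map_cons, List.prod_cons,
      ← unitW, ih fun x hx => hw x (List.mem_cons_of_mem _ hx), unitL, dif_pos hg]

/-- The first row differs from that of the identity. -/
noncomputable def neTest (w : List ℕ) : Bool :=
  force (evalFrom w idN) fun X => (List.range 111).any fun t => !Nat.beq (lane X t) (lane idN t)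

theorem unitW_ne_one {w : List ℕ} (hw : ∀ g ∈ w, g < 10) (h : neTest w = true) : unitW w ≠ 1 := by
  intro e
  simp only [neTest, force_eq, List.any_eq_true, List.mem_range, Bool.not_eq_true'] at h
  obtain ⟨t, ht, hne⟩ := h
  have hv := val_unitW hw
  rw [e, Units.val_one, ← idN_mat.2] at hv
  have := congrFun (congrFun hv ⟨0, by norm_num⟩) ⟨t, ht⟩
  simp only [toMat, Nat.zero_mul, Nat.zero_add] at this
  have h1 := (evalFrom_spec w idN idN_mat.1).1 t (by omega)
  have h2 := idN_mat.1 t (by omega)
  rw [ZMod.natCast_eq_natCast_iff, Nat.ModEq, Nat.mod_eq_of_lt h1, Nat.mod_eq_of_lt h2] at this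
  rw [this] at hne
  simp at hne

theorem unitW_append (u v : List ℕ) : unitW (u ++ v) = unitW u * unitW v := by simp [unitW]

theorem unitW_replicate (w : List ℕ) : ∀ n : ℕ, unitW (List.replicate n w).flatten = unitW w ^ n
  | 0 => by simp [unitW]
  | n + 1 => by
    rw [List.replicate_succ, List.flatten_cons, unitW_append, unitW_replicate w n, pow_succ']

theorem orderOf_rho_el {q : ℕ} {w : List ℕ} (hq : q.Prime) (hw : ∀ g ∈ w, g < 10)
    (h1 : isOne (List.replicate q w).flatten = true) (h2 : neTest w = true) :
    orderOf (rho (el w)) = q := by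
  haveI := Fact.mk hq
  rw [rho_el w hw]
  refine orderOf_eq_prime ?_ (unitW_ne_one hw h2)
  rw [← unitW_replicate]
  refine unitW_eq_one (fun g hg => ?_) h1
  obtain ⟨l, hl, hgl⟩ := List.mem_flatten.1 hg
  exact hw g ((List.eq_of_mem_replicate hl) ▸ hgl)

theorem pow37 : isOne (List.replicate 37 [0, 4, 8, 6]).flatten = true := by decide +kernel

theorem pow67 : isOne (List.replicate 67 [0, 2, 4, 8, 6]).flatten = true := by decide +kernel

theorem pow11 : isOne (List.replicate 11 [0, 4, 7, 9, 4]).flatten = true := by decide +kernel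

theorem ne37 : neTest [0, 4, 8, 6] = true := by decide +kernel

theorem ne67 : neTest [0, 2, 4, 8, 6] = true := by decide +kernel

theorem ne11 : neTest [0, 4, 7, 9, 4] = true := by decide +kernel

theorem ne_a : neTest [0] = true := by decide +kernel

theorem dvd_of_order {q : ℕ} {w : List ℕ} (h : orderOf (rho (el w)) = q) : q ∣ Nat.card Ly :=
  h ▸ (orderOf_map_dvd rho (el w)).trans (orderOf_dvd_natCard _)

/-- The order of the presented group is divisible by `11 * 37 * 67`. -/
theorem dvd_card : 27269 ∣ Nat.card Ly := by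
  have h11 : 11 ∣ Nat.card Ly :=
    dvd_of_order (orderOf_rho_el (by norm_num) (by decide) pow11 ne11)
  have h37 : 37 ∣ Nat.card Ly :=
    dvd_of_order (orderOf_rho_el (by norm_num) (by decide) pow37 ne37)
  have h67 : 67 ∣ Nat.card Ly :=
    dvd_of_order (orderOf_rho_el (by norm_num) (by decide) pow67 ne67)
  have h := Nat.Coprime.mul_dvd_of_dvd_of_dvd (by norm_num : Nat.Coprime (11 * 37) 67)
    (Nat.Coprime.mul_dvd_of_dvd_of_dvd (by norm_num : Nat.Coprime 11 37) h11 h37) h67
  norm_num at h
  exact h

/-- The map from `P` to the presented Lyons group is injective. -/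
theorem toLy_injective : Function.Injective LyP.toLy := by
  refine LyP.G25.toLy_injective_of_ne_one fun h => unitW_ne_one (w := [0]) (by decide) ne_a ?_
  have h0 : LyP.toLy (PresentedGroup.of 0) = 1 := by rw [h, MonoidHom.one_apply]
  rw [LyP.toLy_of] at h0
  rw [← rho_el [0] (by decide)]
  have : el [0] = PresentedGroup.of (LyP.abcde 0) := by simp [el, elL, letGen, LyP.abcde]
  rw [this, h0, map_one]

end Cfsg.Agent.Lib.CosetEnum.LyRep
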