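import Cfsg.Agent.Lib.CosetEnum.LyRep.Check0
import Cfsg.Agent.Lib.CosetEnum.LyRep.Check1
import Cfsg.Agent.Lib.CosetEnum.LyRep.Check2
import Cfsg.Agent.Lib.CosetEnum.LyRep.Check3

/-! The representation of the presented Lyons group in dimension 111 over GF(5). -/

set_option autoImplicit false
set_option maxRecDepth 100000

namespace Cfsg.Agent.Lib.CosetEnum.LyRep

open Cfsg.Spor

theorem relOK_all : ∀ i < 86, relOK i = true := by
  intro i hi
  rcases (by omega : (0 ≤ i ∧ i ≤ 24) ∨ (25 ≤ i ∧ i ≤ 35) ∨ (36 ≤ i ∧ i ≤ 75) ∨ (76 ≤ i ∧ i ≤ 85)) with hc | hc | hc | hc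
  · exact List.all_eq_true.1 rels0 i (List.mem_range'_1.2 (by omega))
  · exact List.all_eq_true.1 rels1 i (List.mem_range'_1.2 (by omega))
  · exact List.all_eq_true.1 rels2 i (List.mem_range'_1.2 (by omega))
  · exact List.all_eq_true.1 rels3 i (List.mem_range'_1.2 (by omega))

theorem extra_length : Ly.extra.length = 86 := by decide +kernel

theorem lift_rels : ∀ r ∈ coxRelators Ly.edges ∪ {r | r ∈ Ly.extra},
    FreeGroup.lift (fun x => unitW (img x)) r = 1 := by
  rintro r (⟨x, hx, -⟩ | hr)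
  · simp [coxNodes, Ly.edges] at hx
  obtain ⟨i, hi, rfl⟩ := List.mem_iff_getElem.1 hr
  rw [← List.getD_eq_getElem _ 1 hi]
  exact lift_eq_one (relOK_all i (extra_length ▸ hi))

/-- The representation. -/
noncomputable def rho : Ly →* (Matrix (Fin 111) (Fin 111) (ZMod 5))ˣ := PresentedGroup.toGroup lift_rels

theorem rho_of (x : Ly.Gen) : rho (PresentedGroup.of x) = unitW (img x) :=
  PresentedGroup.toGroup.of lift_rels

end Cfsg.Agent.Lib.CosetEnum.LyRep
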