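import Cfsg.Agent.Lib.CosetEnum.LyRep.Facts
import Cfsg.Agent.Lib.CosetEnum.LyP.Order

/-!
The arithmetic of the index of `P` in the presented Lyons group: the index is divisible by 27269, and
the only sum of admissible suborbit lengths with this property is 8835156.
-/

set_option autoImplicit false
set_option maxRecDepth 100000
set_option Elab.async false

namespace Cfsg.Agent.Lib.CosetEnum.LyRep

open Cfsg.Spor

theorem card_range : Nat.card LyP.toLy.range = 5859000000 := by
  rw [← LyP.card_P.1]
  exact (Nat.card_congr (MonoidHom.ofInjective toLy_injective).toEquiv).symm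

/-- The index of `P` is divisible by `11 * 37 * 67`. -/
theorem dvd_index : 27269 ∣ LyP.toLy.range.index := by
  have h : 27269 ∣ LyP.toLy.range.index * 5859000000 := by
    rw [← card_range, Subgroup.index_mul_card]
    exact dvd_card
  exact (Nat.Coprime.dvd_of_dvd_mul_right (by norm_num) h)

/-- A subgroup of `P` has index 1 or at least 31, `P` being simple of order divisible by 31. -/
theorem index_eq_one_or_le {G : Type*} [Group G] [Finite G] [IsSimpleGroup G] (h31 : 31 ∣ Nat.card G)
    (H : Subgroup G) : H.index = 1 ∨ 31 ≤ H.index := by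
  by_contra hc
  obtain ⟨h1, h2⟩ := not_or.1 hc
  have hker : H.normalCore = ⊥ := (H.normalCore_normal.eq_bot_or_eq_top).resolve_right fun ht =>
    h1 (Subgroup.index_eq_one.2 (top_le_iff.1 (ht ▸ H.normalCore_le)))
  have hd : Nat.card G ∣ (H.index).factorial := by
    have h := H.normalCore_eq_ker ▸ hker
    have h' := Subgroup.card_dvd_of_injective (MulAction.toPermHom G (G ⧸ H))
      ((MonoidHom.ker_eq_bot_iff _).1 h)
    rwa [Nat.card_perm] at h'
  have hp : Nat.Prime 31 := by norm_num
  exact h2 (hp.dvd_factorial.1 (h31.trans hd))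

/-- All products of the given divisors. -/
def prods : List (List ℕ) → List ℕ
  | [] => [1]
  | l :: ls => l.flatMap fun a => (prods ls).map (a * ·)

theorem mem_prods_of_dvd : ∀ (ns : List ℕ) (ls : List (List ℕ)),
    List.Forall₂ (fun n l => ∀ d, d ∣ n → d ∈ l) ns ls → ∀ e, e ∣ ns.prod → e ∈ prods ls
  | [], _, h, e, he => by
    cases h
    simp only [List.prod_nil, Nat.dvd_one] at he
    simp [prods, he]
  | n :: ns, _, h, e, he => by
    cases h with
    | cons h1 h2 =>
      rw [List.prod_cons] at he
      obtain ⟨a, b, ha, hb, rfl⟩ := Nat.dvd_mul.1 he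
      simp only [prods, List.mem_flatMap, List.mem_map]
      exact ⟨a, h1 a ha, b, mem_prods_of_dvd ns _ h2 b hb, rfl⟩

theorem dvd_mem {n : ℕ} {l : List ℕ} (hn : n ≠ 0)
    (h : ((List.range (n + 1)).all fun d => !Nat.beq (n % d) 0 || l.contains d) = true) :
    ∀ d, d ∣ n → d ∈ l := by
  intro d hd
  have := List.all_eq_true.1 h d (List.mem_range.2 (Nat.lt_succ_of_le (Nat.le_of_dvd (by omega) hd)))
  rw [Nat.mod_eq_zero_of_dvd hd] at this
  simpa using this

/-- The admissible lengths: 0, or a divisor that is 1 or at least 31. -/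
def lens (ls : List (List ℕ)) : List ℕ := 0 :: (prods ls).filter fun e => Nat.beq e 1 || Nat.ble 31 e

/-- The lists of divisors for the third, fourth and fifth suborbits. -/
def divs : Fin 3 → List (List ℕ) :=
  ![[[1, 2, 4], [1, 3], [1, 5, 25, 125, 625, 3125, 15625], [1, 31]],
    [[1, 2], [1, 5, 25, 125, 625, 3125, 15625], [1, 31]],
    [[1, 3], [1, 5, 25, 125, 625, 3125], [1, 7], [1, 31]]]

theorem mem_lens {e : ℕ} (i : Fin 3) (h : e = 0 ∨ (e ∣ ![5812500, 968750, 2034375] i ∧ (e = 1 ∨ 31 ≤ e))) :
    e ∈ lens (divs i) := by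
  rcases h with rfl | ⟨hd, he⟩
  · simp [lens]
  refine List.mem_cons_of_mem _ (List.mem_filter.2 ⟨?_, by simpa using he⟩)
  fin_cases i
  · refine mem_prods_of_dvd [4, 3, 15625, 31] _ ?_ e hd
    simp only [divs]
    exact .cons (dvd_mem (by norm_num) (by decide +kernel)) <| .cons (dvd_mem (by norm_num)
      (by decide +kernel)) <| .cons (dvd_mem (by norm_num) (by decide +kernel)) <|
        .cons (dvd_mem (by norm_num) (by decide +kernel)) .nil
  · refine mem_prods_of_dvd [2, 15625, 31] _ ?_ e hd
    simp only [divs]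
    exact .cons (dvd_mem (by norm_num) (by decide +kernel)) <| .cons (dvd_mem (by norm_num)
      (by decide +kernel)) <| .cons (dvd_mem (by norm_num) (by decide +kernel)) .nil
  · refine mem_prods_of_dvd [3, 3125, 7, 31] _ ?_ e hd
    simp only [divs]
    exact .cons (dvd_mem (by norm_num) (by decide +kernel)) <| .cons (dvd_mem (by norm_num)
      (by decide +kernel)) <| .cons (dvd_mem (by norm_num) (by decide +kernel)) <|
        .cons (dvd_mem (by norm_num) (by decide +kernel)) .nil

/-- The check over all triples of lengths. -/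
def triples : Bool :=
  (lens (divs 0)).all fun a => (lens (divs 1)).all fun b => (lens (divs 2)).all fun c =>
    !Nat.beq ((19531 + a + b + c) % 27269) 0 ||
      (Nat.beq a 5812500 && (Nat.beq b 968750 && Nat.beq c 2034375))

theorem triples_ok : triples = true := by decide +kernel

/-- Suborbit lengths with a sum divisible by 27269 are the full ones. -/
theorem lens_unique {a b c : ℕ} (ha : a = 0 ∨ (a ∣ 5812500 ∧ (a = 1 ∨ 31 ≤ a)))
    (hb : b = 0 ∨ (b ∣ 968750 ∧ (b = 1 ∨ 31 ≤ b))) (hc : c = 0 ∨ (c ∣ 2034375 ∧ (c = 1 ∨ 31 ≤ c)))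
    (h : 27269 ∣ 1 + 19530 + a + b + c) : a = 5812500 ∧ b = 968750 ∧ c = 2034375 := by
  have h1 := List.all_eq_true.1 (List.all_eq_true.1 (List.all_eq_true.1 triples_ok a
    (mem_lens 0 (by simpa using ha))) b (mem_lens 1 (by simpa using hb))) c
    (mem_lens 2 (by simpa using hc))
  have h2 : (19531 + a + b + c) % 27269 = 0 := Nat.mod_eq_zero_of_dvd h
  rw [h2] at h1
  simpa using h1

end Cfsg.Agent.Lib.CosetEnum.LyRep
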