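import Cfsg.Agent.Lib.CosetEnum.Prim

/-!
Natural numbers as vectors of 12-bit lanes: extraction of a lane, and lanewise reduction modulo 5 by a
few operations on the whole number.
-/

set_option autoImplicit false

namespace Cfsg.Agent.Lib.CosetEnum.LyRep

open Cfsg.Agent.Lib.CosetEnum

/-- The size of a lane. -/
abbrev W : ℕ := 4096

/-- The number with given lanes. -/
def pk (d : ℕ → ℕ) : ℕ → ℕ
  | 0 => 0
  | n + 1 => d 0 + W * pk (fun i => d (i + 1)) n

/-- A lane of a number. -/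
def lane (x i : ℕ) : ℕ := x / W ^ i % W

theorem pk_congr : ∀ (n : ℕ) {d e : ℕ → ℕ}, (∀ i < n, d i = e i) → pk d n = pk e n
  | 0, _, _, _ => rfl
  | n + 1, d, e, h => by
    rw [pk, pk, h 0 n.succ_pos, pk_congr n fun i hi => h (i + 1) (Nat.succ_lt_succ hi)]

theorem pk_lane : ∀ (n : ℕ) (x : ℕ), x < W ^ n → pk (lane x) n = x
  | 0, x, h => by simp at h; simp [pk, h]
  | n + 1, x, h => by
    have h' : x / W < W ^ n := by
      rw [Nat.div_lt_iff_lt_mul (by norm_num)]
      simpa [pow_succ] using h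
    have he : (fun i => lane x (i + 1)) = lane (x / W) := by
      funext i
      simp only [lane]
      rw [pow_succ', ← Nat.div_div_eq_div_mul]
    rw [pk, he, pk_lane n _ h']
    simp only [lane, pow_zero, Nat.div_one]
    exact Nat.mod_add_div x W

theorem pk_lt : ∀ (n : ℕ) (d : ℕ → ℕ), (∀ i < n, d i < W) → pk d n < W ^ n
  | 0, _, _ => by simp [pk]
  | n + 1, d, h => by
    have := pk_lt n (fun i => d (i + 1)) fun i hi => h (i + 1) (Nat.succ_lt_succ hi)
    have h0 := h 0 n.succ_pos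
    rw [pk, pow_succ']
    calc d 0 + W * pk (fun i => d (i + 1)) n < W + W * pk (fun i => d (i + 1)) n := by omega
      _ = W * (pk (fun i => d (i + 1)) n + 1) := by ring
      _ ≤ W * W ^ n := Nat.mul_le_mul_left _ this

theorem lane_pk : ∀ (n : ℕ) (d : ℕ → ℕ), (∀ i < n, d i < W) → ∀ i < n, lane (pk d n) i = d i
  | 0, _, _, i, hi => absurd hi (Nat.not_lt_zero i)
  | n + 1, d, h, 0, _ => by
    rw [lane, pk, pow_zero, Nat.div_one, Nat.add_mul_mod_self_left, Nat.mod_eq_of_lt (h 0 n.succ_pos)]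
  | n + 1, d, h, i + 1, hi => by
    have h0 := h 0 n.succ_pos
    rw [lane, pk, pow_succ', ← Nat.div_div_eq_div_mul,
      Nat.add_mul_div_left _ _ (by norm_num : 0 < W), Nat.div_eq_of_lt h0, zero_add]
    exact lane_pk n _ (fun j hj => h (j + 1) (Nat.succ_lt_succ hj)) i (Nat.lt_of_succ_lt_succ hi)

theorem add_mul_land (a b m k : ℕ) (ha : a < W) (hm : m < W) :
    (a + W * b) &&& (m + W * k) = (a &&& m) + W * (b &&& k) := by
  have hw : W = 2 ^ 12 := by norm_num
  refine Nat.eq_of_testBit_eq fun i => ?_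
  have hl : a &&& m < 2 ^ 12 := lt_of_le_of_lt Nat.and_le_left (by simpa [hw] using ha)
  rw [Nat.testBit_and, Nat.add_comm a, Nat.add_comm m, Nat.add_comm (a &&& m), hw,
    Nat.testBit_two_pow_mul_add _ (by simpa [hw] using ha), Nat.testBit_two_pow_mul_add _ (by simpa [hw] using hm),
    Nat.testBit_two_pow_mul_add _ hl]
  split <;> simp [Nat.testBit_and]

/-- The same value in every lane. -/
def rep (v n : ℕ) : ℕ := pk (fun _ => v) n

theorem shift_land : ∀ (n : ℕ) (d : ℕ → ℕ) (s : ℕ), s ≤ 12 → (∀ i < n, d i < W) →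
    (pk d n / 2 ^ s) &&& rep (2 ^ (12 - s) - 1) n = pk (fun i => d i / 2 ^ s) n
  | 0, d, s, _, _ => by simp [pk, rep]
  | n + 1, d, s, hs, h => by
    have h0 := h 0 n.succ_pos
    set p := pk (fun i => d (i + 1)) n
    have hw : W = 2 ^ s * 2 ^ (12 - s) := by
      rw [← pow_add, Nat.add_sub_cancel' hs]; norm_num
    have hpow : 0 < 2 ^ (12 - s) := by positivity
    have hdiv : pk d (n + 1) / 2 ^ s = d 0 / 2 ^ s + 2 ^ (12 - s) * p := by
      rw [pk, hw, mul_assoc, Nat.add_mul_div_left _ _ (by positivity)]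
    -- split off the lowest lane
    have hm : 2 ^ (12 - s) - 1 < W := by
      have : 2 ^ (12 - s) ≤ W := by
        calc 2 ^ (12 - s) ≤ 2 ^ 12 := Nat.pow_le_pow_right (by norm_num) (Nat.sub_le _ _)
          _ = W := by norm_num
      omega
    have hlow : d 0 / 2 ^ s < 2 ^ (12 - s) := by
      rw [Nat.div_lt_iff_lt_mul (by positivity), mul_comm, ← hw]; exact h0
    set y := d 0 / 2 ^ s + 2 ^ (12 - s) * p with hy
    rw [hdiv, rep, pk, show y = y % W + W * (y / W) from (Nat.mod_add_div y W).symm,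
      add_mul_land _ _ _ _ (Nat.mod_lt _ (by norm_num)) hm, pk]
    congr 1
    · rw [Nat.and_two_pow_sub_one_eq_mod, Nat.mod_mod_of_dvd _ (by rw [hw]; exact Dvd.intro_left _ rfl),
        hy, Nat.add_mul_mod_self_left, Nat.mod_eq_of_lt hlow]
    · congr 1
      have : y / W = p / 2 ^ s := by
        rw [hw, mul_comm (2 ^ s), ← Nat.div_div_eq_div_mul, hy, Nat.add_mul_div_left _ _ hpow,
          Nat.div_eq_of_lt hlow, zero_add]
      rw [this]
      exact shift_land n _ s hs fun i hi => h (i + 1) (Nat.succ_lt_succ hi)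

theorem land_rep : ∀ (n : ℕ) (d : ℕ → ℕ) (v : ℕ), v < W → (∀ i < n, d i < W) →
    pk d n &&& rep v n = pk (fun i => d i &&& v) n
  | 0, d, v, _, _ => by simp [pk, rep]
  | n + 1, d, v, hv, h => by
    rw [rep, pk, pk, add_mul_land _ _ _ _ (h 0 n.succ_pos) hv, pk]
    rw [show pk (fun _ => v) n = rep v n from rfl,
      land_rep n _ v hv fun i hi => h (i + 1) (Nat.succ_lt_succ hi)]

theorem pk_add : ∀ (n : ℕ) (d e : ℕ → ℕ), pk d n + pk e n = pk (fun i => d i + e i) n
  | 0, d, e => rfl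
  | n + 1, d, e => by
    rw [pk, pk, pk, ← pk_add n (fun i => d (i + 1)) fun i => e (i + 1)]; ring

theorem pk_smul : ∀ (n : ℕ) (c : ℕ) (d : ℕ → ℕ), c * pk d n = pk (fun i => c * d i) n
  | 0, c, d => by simp [pk]
  | n + 1, c, d => by rw [pk, pk, ← pk_smul n c fun i => d (i + 1)]; ring

/-- The masks of a given number of lanes. -/
structure Masks where
  m15 : ℕ
  m255 : ℕ
  m63 : ℕ

/-- The masks are what they should be. -/
def Masks.OK (M : Masks) (n : ℕ) : Prop :=
  M.m15 = rep 15 n ∧ M.m255 = rep 255 n ∧ M.m63 = rep 63 n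

/-- One folding step: a lane `16 a + b` becomes `a + b`. -/
noncomputable def fold16 (M : Masks) (x : ℕ) : ℕ :=
  force x fun x => ((x / 16) &&& M.m255) + (x &&& M.m15)

/-- Reduce every lane modulo 5. -/
noncomputable def red5 (M : Masks) (x : ℕ) : ℕ :=
  force (fold16 M (fold16 M (fold16 M x))) fun y => y - 5 * ((13 * y / 64) &&& M.m63)

/-- The folded value of a lane. -/
def f16 (v : ℕ) : ℕ := v / 16 + v % 16

theorem fold16_pk {M : Masks} {n : ℕ} (hM : M.OK n) (d : ℕ → ℕ) (h : ∀ i < n, d i < W) :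
    fold16 M (pk d n) = pk (fun i => f16 (d i)) n := by
  obtain ⟨h1, h2, -⟩ := hM
  rw [fold16, force_eq, h1, h2]
  have a := shift_land n d 4 (by norm_num) h
  norm_num at a
  rw [a, land_rep n d 15 (by norm_num) h, pk_add]
  refine pk_congr n fun i _ => ?_
  rw [show (15 : ℕ) = 2 ^ 4 - 1 from rfl, Nat.and_two_pow_sub_one_eq_mod]
  rfl

/-- The reduced value of a lane. -/
def r5 (v : ℕ) : ℕ :=
  let y := f16 (f16 (f16 v))
  y - 5 * (13 * y / 64)

theorem f16_le {v : ℕ} (h : v < W) : f16 (f16 (f16 v)) ≤ 31 ∧ f16 v < W ∧ f16 (f16 v) < W := by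
  simp only [f16]; norm_num at h ⊢; omega

theorem r5_eq {v : ℕ} (h : v < W) : r5 v = v % 5 := by
  have hy := (f16_le h).1
  have hc : f16 (f16 (f16 v)) % 5 = v % 5 := by simp only [f16]; omega
  simp only [r5]
  generalize f16 (f16 (f16 v)) = y at hy hc ⊢
  omega

theorem red5_pk {M : Masks} {n : ℕ} (hM : M.OK n) (d : ℕ → ℕ) (h : ∀ i < n, d i < W) :
    red5 M (pk d n) = pk (fun i => d i % 5) n := by
  have b : ∀ i < n, f16 (f16 (f16 (d i))) ≤ 31 := fun i hi => (f16_le (h i hi)).1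
  simp only [red5, force_eq]
  rw [fold16_pk hM d h, fold16_pk hM _ (fun i hi => (f16_le (h i hi)).2.1),
    fold16_pk hM _ (fun i hi => (f16_le (h i hi)).2.2)]
  rw [hM.2.2, pk_smul]
  have a := shift_land n (fun i => 13 * f16 (f16 (f16 (d i)))) 6 (by norm_num)
    (fun i hi => by have := b i hi; norm_num; omega)
  norm_num at a
  rw [a, pk_smul]
  have hs := pk_add n (fun i => d i % 5) fun i => 5 * (13 * f16 (f16 (f16 (d i))) / 64)
  rw [pk_congr n (d := fun i => d i % 5 + 5 * (13 * f16 (f16 (f16 (d i))) / 64))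
    (e := fun i => f16 (f16 (f16 (d i)))) ?_] at hs
  · rw [← hs, Nat.add_sub_cancel]
  · intro i hi
    have h5 := r5_eq (h i hi)
    simp only [r5] at h5
    have := b i hi
    omega

end Cfsg.Agent.Lib.CosetEnum.LyRep
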