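import Cfsg.Agent.Lib.CosetEnum.LyRep.Lane

/-!
Square matrices over `ZMod 5` packed into one number, and right multiplication by a matrix given by its
packed rows.
-/

set_option autoImplicit false

namespace Cfsg.Agent.Lib.CosetEnum.LyRep

open Cfsg.Agent.Lib.CosetEnum Matrix

/-- A column with one digit to the base `W ^ w` for each row. -/
def blk (w : ℕ) (g : ℕ → ℕ) : ℕ → ℕ
  | 0 => 0
  | m + 1 => g 0 + W ^ w * blk w (fun i => g (i + 1)) m

/-- The digits of a column. -/
def digit (w c i : ℕ) : ℕ := c / (W ^ w) ^ i % W ^ w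

theorem pk_split : ∀ (a b : ℕ) (d : ℕ → ℕ), pk d (a + b) = pk d a + W ^ a * pk (fun i => d (a + i)) b
  | 0, b, d => by simp [pk]
  | a + 1, b, d => by
    rw [show a + 1 + b = (a + b) + 1 by omega, pk, pk_split a b, pk, pow_succ']
    simp only [show ∀ i, a + 1 + i = a + i + 1 from fun i => by omega]
    ring

theorem blk_mul_pk (w : ℕ) (hw : 0 < w) (r : ℕ → ℕ) : ∀ (m : ℕ) (g : ℕ → ℕ),
    blk w g m * pk r w = pk (fun t => g (t / w) * r (t % w)) (m * w)
  | 0, g => by simp [blk, pk]
  | m + 1, g => by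
    rw [blk, show (m + 1) * w = w + m * w by ring, pk_split, add_mul, mul_assoc,
      blk_mul_pk w hw r m fun i => g (i + 1), pk_smul w (g 0) r]
    congr 1
    · exact pk_congr w fun i hi => by rw [Nat.div_eq_of_lt hi, Nat.mod_eq_of_lt hi]
    · congr 1
      refine pk_congr _ fun i _ => ?_
      rw [Nat.add_comm w i, Nat.add_div_right _ hw, Nat.add_mod_right]

/-- Every row is a number with lanes below 8. -/
noncomputable def rowGo (m : ℕ) : ℕ → Bool :=
  Nat.rec (motive := fun _ => ℕ → Bool) (fun x => Nat.beq x 0)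
    (fun _ ih x => force x fun x => Nat.blt (x % W) 8 && ih (x / W)) m

theorem rowGo_spec : ∀ (m x : ℕ), rowGo m x = true → x < W ^ m ∧ ∀ j < m, lane x j < 8
  | 0, x, h => by
    change Nat.beq x 0 = true at h
    rw [Nat.beq_eq] at h
    exact ⟨by simp [h], fun j hj => absurd hj (Nat.not_lt_zero j)⟩
  | m + 1, x, h => by
    change (force x fun x => Nat.blt (x % W) 8 && rowGo m (x / W)) = true at h
    simp only [force_eq, Bool.and_eq_true, Nat.blt_eq] at h
    obtain ⟨h0, h1⟩ := h
    obtain ⟨hlt, hd⟩ := rowGo_spec m _ h1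
    refine ⟨?_, fun j hj => ?_⟩
    · rw [pow_succ, ← Nat.div_lt_iff_lt_mul (by norm_num)]; exact hlt
    · match j, hj with
      | 0, _ => simpa [lane] using h0
      | j + 1, hj =>
        have := hd j (by omega)
        rwa [lane, Nat.div_div_eq_div_mul, ← pow_succ'] at this

theorem add_mul_land_pow (e a b m k : ℕ) (ha : a < 2 ^ e) (hm : m < 2 ^ e) :
    (a + 2 ^ e * b) &&& (m + 2 ^ e * k) = (a &&& m) + 2 ^ e * (b &&& k) := by
  refine Nat.eq_of_testBit_eq fun i => ?_
  have hl : a &&& m < 2 ^ e := lt_of_le_of_lt Nat.and_le_left ha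
  rw [Nat.testBit_and, Nat.add_comm a, Nat.add_comm m, Nat.add_comm (a &&& m),
    Nat.testBit_two_pow_mul_add _ ha, Nat.testBit_two_pow_mul_add _ hm,
    Nat.testBit_two_pow_mul_add _ hl]
  split <;> simp [Nat.testBit_and]

theorem land_blk (w : ℕ) (hw : 0 < w) : ∀ (m x : ℕ),
    x &&& blk w (fun _ => W - 1) m = blk w (fun i => digit w x i % W) m
  | 0, x => by simp [blk]
  | m + 1, x => by
    have hB : W ^ w = 2 ^ (12 * w) := by rw [pow_mul]; norm_num
    have hm : W - 1 < W ^ w := lt_of_lt_of_le (by norm_num : W - 1 < W) (Nat.le_self_pow (by omega) W)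
    rw [blk, blk]
    conv_lhs => rw [← Nat.mod_add_div x (W ^ w)]
    rw [hB, add_mul_land_pow _ _ _ _ _ (Nat.mod_lt _ (by positivity)) (by rwa [← hB]), ← hB,
      land_blk w hw m (x / W ^ w)]
    congr 1
    · have h12 := Nat.and_two_pow_sub_one_eq_mod (x % W ^ w) 12
      norm_num at h12
      simp only [digit, pow_zero, Nat.div_one]
      norm_num
      exact h12
    · congr 2
      funext i
      simp only [digit]
      rw [Nat.div_div_eq_div_mul, ← pow_succ']

/-- Add the products of successive columns with the rows. -/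
noncomputable def mulGo (mask : ℕ) (rs : List ℕ) : ℕ → ℕ → ℕ :=
  List.rec (motive := fun _ => ℕ → ℕ → ℕ) (fun _ acc => acc)
    (fun r _ ih X acc =>
      force X fun X => force (acc + (X &&& mask) * r) fun acc => ih (X / W) acc) rs

/-- The product of a packed matrix and a matrix given by rows, reduced. -/
noncomputable def mulR (M : Masks) (mask X : ℕ) (rows : List ℕ) : ℕ := red5 M (mulGo mask rows X 0)

/-- The rows are fine. -/
noncomputable def rowsOK (w : ℕ) (rows : List ℕ) : Bool :=
  Nat.beq rows.length w && rows.all (rowGo w)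

theorem mulGo_pk (n : ℕ) (hn : 0 < n) : ∀ (rs : List ℕ) (X : ℕ) (e : ℕ → ℕ),
    (∀ r ∈ rs, rowGo n r = true) →
    mulGo (blk n (fun _ => W - 1) n) rs X (pk e (n * n)) = pk (fun t => e t +
      ((List.range rs.length).map fun k =>
        digit n (X / W ^ k) (t / n) % W * lane (rs.getD k 0) (t % n)).sum) (n * n)
  | [], X, e, _ => by
    simp only [mulGo, List.length_nil, List.range_zero, List.map_nil, List.sum_nil, Nat.add_zero]
  | r :: rs, X, e, h => by
    obtain ⟨hr, -⟩ := rowGo_spec n r (h r List.mem_cons_self)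
    have hm : (X &&& blk n (fun _ => W - 1) n) * r =
        pk (fun t => digit n X (t / n) % W * lane r (t % n)) (n * n) := by
      conv_lhs => rw [land_blk n hn, ← pk_lane n r hr]
      rw [blk_mul_pk n hn]
    have step : mulGo (blk n (fun _ => W - 1) n) (r :: rs) X (pk e (n * n)) =
        mulGo (blk n (fun _ => W - 1) n) rs (X / W)
          (pk e (n * n) + (X &&& blk n (fun _ => W - 1) n) * r) := by
      simp only [mulGo, force_eq]
    rw [step, hm, pk_add, mulGo_pk n hn rs _ _ fun x hx => h x (List.mem_cons_of_mem _ hx)]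
    refine pk_congr _ fun t _ => ?_
    rw [List.length_cons, List.range_succ_eq_map, List.map_cons, List.sum_cons, List.map_map]
    simp only [List.getD_cons_zero, pow_zero, Nat.div_one, add_assoc, Function.comp_def,
      List.getD_cons_succ, pow_succ', ← Nat.div_div_eq_div_mul]

variable {n : ℕ}

/-- The matrix of a packed number. -/
def toMat (n : ℕ) (X : ℕ) : Matrix (Fin n) (Fin n) (ZMod 5) :=
  fun i j => (lane X (i.1 * n + j.1) : ZMod 5)

/-- The matrix of a list of rows. -/
def rowMat (n : ℕ) (rows : List ℕ) : Matrix (Fin n) (Fin n) (ZMod 5) :=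
  fun k j => (lane (rows.getD k.1 0) j.1 : ZMod 5)

/-- All lanes are below 5. -/
def Small (n X : ℕ) : Prop := ∀ t < n * n, lane X t < 5

theorem idx_lt {i j : ℕ} (hi : i < n) (hj : j < n) : i * n + j < n * n :=
  calc i * n + j < i * n + n := by omega
    _ = (i + 1) * n := by ring
    _ ≤ n * n := Nat.mul_le_mul_right _ hi

theorem lane_col {X k i : ℕ} (hn : 0 < n) :
    digit n (X / W ^ k) i % W = lane X (i * n + k) := by
  simp only [digit, lane]
  rw [Nat.mod_mod_of_dvd _ (dvd_pow_self W (by omega : n ≠ 0)), Nat.div_div_eq_div_mul, ← pow_mul,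
    ← pow_add, Nat.mul_comm n i, Nat.add_comm k]

theorem mulR_spec {M : Masks} (hM : M.OK (n * n)) (hn : 0 < n) (hb : 28 * n < W) {mask : ℕ}
    (hmask : mask = blk n (fun _ => W - 1) n) {rows : List ℕ}
    (hc : rowsOK n rows = true) {X : ℕ} (hX : Small n X) :
    Small n (mulR M mask X rows) ∧
      toMat n (mulR M mask X rows) = toMat n X * rowMat n rows := by
  subst hmask
  simp only [rowsOK, Bool.and_eq_true, Nat.beq_eq, List.all_eq_true] at hc
  obtain ⟨hlen, hrow⟩ := hc
  have h0 : pk (fun _ => 0) (n * n) = 0 := by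
    have := pk_smul (n * n) 0 fun _ => 0
    simp only [Nat.zero_mul] at this
    exact this.symm
  have hgo := mulGo_pk n hn rows X (fun _ => 0) hrow
  rw [h0, hlen] at hgo
  simp only [Nat.zero_add] at hgo
  set d : ℕ → ℕ := fun t => ((List.range n).map fun k =>
        digit n (X / W ^ k) (t / n) % W * lane (rows.getD k 0) (t % n)).sum with hd
  have hlt : ∀ t < n * n, d t < W := by
    intro t ht
    refine lt_of_le_of_lt ?_ hb
    have : ∀ y ∈ (List.range n).map (fun k =>
        digit n (X / W ^ k) (t / n) % W * lane (rows.getD k 0) (t % n)), y ≤ 28 := by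
      intro y hy
      simp only [List.mem_map, List.mem_range] at hy
      obtain ⟨k, hk, rfl⟩ := hy
      have h1 : lane (rows.getD k 0) (t % n) < 8 := by
        rw [List.getD_eq_getElem _ _ (hlen.symm ▸ hk)]
        exact (rowGo_spec n _ (hrow _ (List.getElem_mem _))).2 _ (Nat.mod_lt _ hn)
      have h2 : digit n (X / W ^ k) (t / n) % W < 5 := by
        rw [lane_col hn]
        exact hX _ (idx_lt ((Nat.div_lt_iff_lt_mul hn).2 ht) hk)
      calc _ ≤ 4 * 7 := Nat.mul_le_mul (by omega) (by omega)
        _ = 28 := rfl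
    have := List.sum_le_card_nsmul _ _ this
    simp only [List.length_map, List.length_range, smul_eq_mul] at this
    exact this.trans_eq (mul_comm n 28)
  have hres : mulR M (blk n (fun _ => W - 1) n) X rows = pk (fun t => d t % 5) (n * n) := by
    rw [mulR, hgo, red5_pk hM d hlt]
  have hlane : ∀ t < n * n, lane (mulR M (blk n (fun _ => W - 1) n) X rows) t = d t % 5 := fun t ht => by
    rw [hres, lane_pk _ _ (fun i _ => lt_trans (Nat.mod_lt _ (by norm_num)) (by norm_num)) t ht]
  refine ⟨fun t ht => by rw [hlane t ht]; exact Nat.mod_lt _ (by norm_num), ?_⟩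
  ext i j
  rw [toMat, hlane _ (idx_lt i.2 j.2), Matrix.mul_apply, ZMod.natCast_mod, hd]
  simp only [Nat.cast_list_sum, List.map_map]
  rw [← Fin.sum_univ_fun_getElem]
  refine Finset.sum_bij' (fun k _ => ⟨k.1, by simpa using k.2⟩) (fun k _ => ⟨k.1, by simp⟩)
    (by simp) (by simp) (by simp) (by simp) fun k _ => ?_
  have hdiv : (i.1 * n + j.1) / n = i.1 := by
    rw [Nat.add_comm, Nat.add_mul_div_right _ _ hn, Nat.div_eq_of_lt j.2, Nat.zero_add]
  have hmod : (i.1 * n + j.1) % n = j.1 := by
    rw [Nat.add_comm, Nat.add_mul_mod_self_right, Nat.mod_eq_of_lt j.2]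
  simp [rowMat, toMat, hdiv, hmod, lane_col hn]

end Cfsg.Agent.Lib.CosetEnum.LyRep
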