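import Cfsg.Agent.Lib.CosetEnum.LyRep.Index

/-!
From a double coset cover of a group by a simple subgroup `P` of order 5859000000 with five suborbit
bounds to the exact index 8835156, the maximality of `P` and the simplicity of the group.
-/

set_option autoImplicit false
set_option maxRecDepth 100000
set_option Elab.async false

namespace Cfsg.Agent.Lib.CosetEnum.LyRep

open MulAction

variable {G : Type*} [Group G] (P : Subgroup G)

/-- The elements `p` of `P` with `r * p * r⁻¹` in `P`. -/
def stab (r : G) : Subgroup P := MulAction.stabilizer P ((r⁻¹ : G) : G ⧸ P)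

theorem mem_stab {r : G} {p : P} : p ∈ stab P r ↔ r * p * r⁻¹ ∈ P := by
  rw [stab, mem_stabilizer_iff, show p • ((r⁻¹ : G) : G ⧸ P) = ((p * r⁻¹ : G) : G ⧸ P) from rfl,
    QuotientGroup.eq, ← P.inv_mem_iff]
  simp [mul_assoc]

/-- `stab` is a given subgroup `K` if `P` is covered by `K` and double cosets of elements outside. -/
theorem stab_eq_of_reps {r : G} {K : Subgroup P} (hK : K ≤ stab P r) (ys : List P)
    (hcov : ∀ p : P, p ∈ K ∨ ∃ y ∈ ys, ∃ k ∈ K, ∃ k' ∈ K, p = k * y * k')
    (hout : ∀ y ∈ ys, r * (y : G) * r⁻¹ ∉ P) : stab P r = K := by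
  refine le_antisymm (fun p hp => (hcov p).resolve_right ?_) hK
  rintro ⟨y, hy, k, hk, k', hk', rfl⟩
  refine hout y hy ((mem_stab P).1 ?_)
  have h := mul_mem (mul_mem (inv_mem (hK hk)) hp) (inv_mem (hK hk'))
  simpa [mul_assoc] using h

/-- The five bounds. -/
def bnd : Fin 5 → ℕ := ![1, 19530, 5812500, 968750, 2034375]

/-- The hypotheses: five representatives with their suborbit bounds. -/
structure Cover (P : Subgroup G) (r : Fin 5 → G) : Prop where
  card_P : Nat.card P = 5859000000
  simple : IsSimpleGroup P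
  one : r 0 = 1
  cover : ∀ g : G, ∃ i, ∃ p ∈ P, ∃ q ∈ P, g = p * r i * q
  first : (stab P (r 1)).index = 19530
  dvd : ∀ i : Fin 5, 2 ≤ i.1 → (stab P (r i)).index ∣ bnd i
  div : 27269 ∣ P.index

variable {P} {r : Fin 5 → G}

theorem Cover.finiteP (h : Cover P r) : Finite P :=
  Nat.finite_of_card_ne_zero (by rw [h.card_P]; norm_num)

/-- The orbit map: each coset is sent to the number of its suborbit. -/
theorem Cover.exists_label (h : Cover P r) : Finite (G ⧸ P) ∧ P.index = 8835156 ∧
    ∃ f : G ⧸ P → Fin 5, (∀ x y, f x = f y ↔ y ∈ orbit P x) ∧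
      f ((1 : G) : G ⧸ P) = 0 ∧ ∀ i, Nat.card {x // f x = i} = bnd i := by
  classical
  haveI := h.finiteP
  haveI := h.simple
  let pt : Fin 5 → G ⧸ P := fun i => ((r i)⁻¹ : G)
  have hcov : ∀ x : G ⧸ P, ∃ i, x ∈ orbit P (pt i) := by
    intro x
    induction x using QuotientGroup.induction_on with
    | H g =>
      obtain ⟨i, p, hp, q, hq, e⟩ := h.cover g⁻¹
      refine ⟨i, ⟨⟨q⁻¹, P.inv_mem hq⟩, ?_⟩⟩
      show ((q⁻¹ * (r i)⁻¹ : G) : G ⧸ P) = _
      rw [QuotientGroup.eq]
      have : g = q⁻¹ * (r i)⁻¹ * p⁻¹ := by rw [← inv_inv g, e]; group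
      rw [this]
      simpa [mul_assoc] using P.inv_mem hp
  haveI hfin : Finite (G ⧸ P) := Finite.of_surjective (fun t : Fin 5 × P => t.2 • pt t.1)
    fun x => by
      obtain ⟨i, p, hp⟩ := hcov x
      exact ⟨(i, p), hp⟩
  have hst : ∀ i, (stab P (r i)).index = (orbit P (pt i)).ncard := fun i =>
    MulAction.index_stabilizer P (pt i)
  have h01 : pt 1 ∉ orbit P (pt 0) := by
    intro hm
    have hs := hst 1
    rw [h.first, MulAction.orbit_eq_iff.2 hm, ← hst 0, h.one] at hs
    have : stab P (1 : G) = ⊤ := by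
      ext p; simp [mem_stab]
    rw [this, Subgroup.index_top] at hs
    norm_num at hs
  let g : MulAction.orbitRel.Quotient P (G ⧸ P) → Fin 5 := fun q =>
    if q = Quotient.mk'' (pt 0) then 0 else if q = Quotient.mk'' (pt 1) then 1 else
      Classical.epsilon fun i => q = Quotient.mk'' (pt i)
  have mk_eq : ∀ x y : G ⧸ P, (Quotient.mk'' x : MulAction.orbitRel.Quotient P (G ⧸ P)) = Quotient.mk'' y ↔
      x ∈ orbit P y := fun x y => Quotient.eq''
  have hg : ∀ x, (Quotient.mk'' x : MulAction.orbitRel.Quotient P (G ⧸ P)) =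
      Quotient.mk'' (pt (g (Quotient.mk'' x))) := by
    intro x
    simp only [g]
    split
    · assumption
    split
    · assumption
    exact Classical.epsilon_spec (p := fun i => Quotient.mk'' x = Quotient.mk'' (pt i))
      (let ⟨i, hi⟩ := hcov x; ⟨i, (mk_eq _ _).2 hi⟩)
  let f : G ⧸ P → Fin 5 := fun x => g (Quotient.mk'' x)
  have hf : ∀ x y, f x = f y ↔ y ∈ orbit P x := by
    intro x y
    constructor
    · intro e
      rw [← mk_eq, hg y, hg x]
      exact congrArg (fun i => Quotient.mk'' (pt i)) e.symm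
    · intro e
      simp only [f, (mk_eq y x).2 e]
  have hfib : ∀ i, Nat.card {x // f x = i} = 0 ∨ Nat.card {x // f x = i} = (stab P (r i)).index := by
    intro i
    by_cases he : ∃ x, f x = i
    · obtain ⟨x, rfl⟩ := he
      refine Or.inr ?_
      rw [hst, ← Nat.card_coe_set_eq]
      refine Nat.card_congr (Equiv.subtypeEquivRight fun y => ?_)
      rw [eq_comm, hf, MulAction.orbit_eq_iff.2 ((mk_eq x _).1 (hg x))]
    · exact Or.inl (by
        haveI : IsEmpty {x // f x = i} := ⟨fun x => he ⟨x.1, x.2⟩⟩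
        exact Nat.card_of_isEmpty)
  have hf0 : f ((1 : G) : G ⧸ P) = 0 := by
    have : pt 0 = ((1 : G) : G ⧸ P) := by simp [pt, h.one]
    simp [f, g, this]
  have hf1 : f (pt 1) = 1 := by
    simp only [f, g]
    rw [if_neg fun e => h01 ((mk_eq _ _).1 e)]
    simp
  have e0 : Nat.card {x // f x = 0} = 1 := by
    have hne : Nonempty {x // f x = 0} := ⟨⟨_, hf0⟩⟩
    rcases hfib 0 with e | e
    · exact absurd e Nat.card_pos.ne'
    · rw [e, h.one, show stab P (1 : G) = ⊤ by ext p; simp [mem_stab], Subgroup.index_top]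
  have e1 : Nat.card {x // f x = 1} = 19530 := by
    have hne : Nonempty {x // f x = 1} := ⟨⟨_, hf1⟩⟩
    rcases hfib 1 with e | e
    · exact absurd e Nat.card_pos.ne'
    · rw [e, h.first]
  have hsum : P.index = ∑ i, Nat.card {x // f x = i} := by
    rw [Subgroup.index, ← Nat.card_sigma]
    exact Nat.card_congr (Equiv.sigmaFiberEquiv f).symm
  have adm : ∀ i : Fin 5, 2 ≤ i.1 → Nat.card {x // f x = i} = 0 ∨
      (Nat.card {x // f x = i} ∣ bnd i ∧
        (Nat.card {x // f x = i} = 1 ∨ 31 ≤ Nat.card {x // f x = i})) := by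
    intro i hi
    rcases hfib i with e | e
    · exact Or.inl e
    · rw [e]
      exact Or.inr ⟨h.dvd i hi, index_eq_one_or_le (by rw [h.card_P]; norm_num) _⟩
  have hd := h.div
  rw [hsum, Fin.sum_univ_five, e0, e1] at hd
  obtain ⟨e2, e3, e4⟩ := lens_unique (adm 2 (by decide)) (adm 3 (by decide)) (adm 4 (by decide)) hd
  refine ⟨hfin, ?_, f, hf, hf0, fun i => ?_⟩
  · rw [hsum, Fin.sum_univ_five, e0, e1, e2, e3, e4]
  · fin_cases i
    exacts [e0, e1, e2, e3, e4]

theorem Cover.index_eq (h : Cover P r) : P.index = 8835156 := h.exists_label.2.1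

theorem Cover.card_eq (h : Cover P r) : Nat.card G = 51765179004000000 := by
  rw [← Subgroup.index_mul_card P, h.index_eq, h.card_P]

theorem Cover.maximal (h : Cover P r) {H : Subgroup G} (hle : P ≤ H) : H = P ∨ H = ⊤ := by
  classical
  obtain ⟨hfin, hidx, f, hf, hf0, hcard⟩ := h.exists_label
  haveI := h.finiteP
  let q : G ⧸ P → Prop := fun x => x.out ∈ H
  have hq : ∀ g : G, q (g : G ⧸ P) ↔ g ∈ H := by
    intro g
    obtain ⟨p, hp⟩ := QuotientGroup.mk_out_eq_mul P g
    simp only [q, hp]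
    exact Subgroup.mul_mem_cancel_right H (hle p.2)
  have hinv : ∀ x y, f x = f y → q x → q y := by
    intro x y e hx
    obtain ⟨p, rfl⟩ := (hf x y).1 e
    induction x using QuotientGroup.induction_on with
    | H g =>
      show q ((p * g : G) : G ⧸ P)
      rw [hq] at hx ⊢
      exact H.mul_mem (hle p.2) hx
  let b : Fin 5 → ℕ := fun i => if ∃ x, f x = i ∧ q x then 1 else 0
  have hfib : ∀ i, Nat.card {x : {x // q x} // f x.1 = i} = b i * bnd i := by
    intro i
    simp only [b]
    split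
    next he =>
      obtain ⟨x, hx, hqx⟩ := he
      rw [one_mul, ← hcard i]
      exact Nat.card_congr ⟨fun y => ⟨y.1.1, y.2⟩,
        fun y => ⟨⟨y.1, hinv x y.1 (hx.trans y.2.symm) hqx⟩, y.2⟩, fun _ => rfl, fun _ => rfl⟩
    next he =>
      haveI : IsEmpty {x : {x // q x} // f x.1 = i} := ⟨fun y => he ⟨y.1.1, y.2, y.1.2⟩⟩
      rw [zero_mul, Nat.card_of_isEmpty]
  have hrel : P.relIndex H = ∑ i, b i * bnd i := by
    rw [← Finset.sum_congr rfl fun i _ => hfib i, ← Nat.card_sigma,
      Nat.card_congr (Equiv.sigmaFiberEquiv _), Subgroup.relIndex, Subgroup.index]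
    refine Nat.card_eq_of_bijective (fun x : H ⧸ P.subgroupOf H => Quotient.liftOn' x
      (fun t => (⟨((t : G) : G ⧸ P), (hq t).2 t.2⟩ : {x // q x}))
      fun a c e => Subtype.ext (QuotientGroup.eq.2 (by
        rw [QuotientGroup.leftRel_apply] at e; exact e))) ⟨?_, ?_⟩
    · intro x y e
      induction x using QuotientGroup.induction_on with
      | H a =>
        induction y using QuotientGroup.induction_on with
        | H c =>
          have e' : ((a : G) : G ⧸ P) = ((c : G) : G ⧸ P) := congrArg Subtype.val e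
          rw [QuotientGroup.eq] at e'
          refine QuotientGroup.eq.2 ?_
          rw [Subgroup.mem_subgroupOf]
          simpa using e'
    · rintro ⟨x, hx⟩
      exact ⟨((⟨x.out, hx⟩ : H) : H ⧸ P.subgroupOf H), Subtype.ext (QuotientGroup.out_eq' x)⟩
  have hb0 : b 0 = 1 := if_pos ⟨_, hf0, (hq 1).2 H.one_mem⟩
  have hb : ∀ i, b i = 0 ∨ b i = 1 := fun i => by simp only [b]; split <;> simp
  have hdvd : P.relIndex H ∣ 8835156 :=
    hidx ▸ Subgroup.relIndex_dvd_index_of_le hle
  have key : P.relIndex H = 1 ∨ P.relIndex H = 8835156 := by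
    rw [hrel, Fin.sum_univ_five, hb0] at hdvd ⊢
    rcases hb 1 with h1 | h1 <;> rcases hb 2 with h2 | h2 <;> rcases hb 3 with h3 | h3 <;>
      rcases hb 4 with h4 | h4 <;>
      · rw [h1, h2, h3, h4, show bnd 0 = 1 from rfl, show bnd 1 = 19530 from rfl,
          show bnd 2 = 5812500 from rfl, show bnd 3 = 968750 from rfl,
          show bnd 4 = 2034375 from rfl] at hdvd ⊢
        revert hdvd
        norm_num
  rcases key with e | e
  · exact Or.inl (le_antisymm (Subgroup.relIndex_eq_one.1 e) hle)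
  · refine Or.inr (Subgroup.index_eq_one.1 ?_)
    have := Subgroup.relIndex_mul_index hle
    rw [e, hidx] at this
    omega

theorem Cover.isSimple (h : Cover P r) : IsSimpleGroup G := by
  classical
  obtain ⟨hfin, hidx, f, hf, hf0, -⟩ := h.exists_label
  haveI := h.finiteP
  haveI := h.simple
  haveI : Finite G := Nat.finite_of_card_ne_zero (by rw [h.card_eq]; norm_num)
  haveI : Nontrivial G := Finite.one_lt_card_iff_nontrivial.1 (by rw [h.card_eq]; norm_num)
  refine ⟨fun N hN => ?_⟩
  haveI := hN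
  have hnn : ¬ P.Normal := fun hn => by
    have : stab P (r 1) = ⊤ := eq_top_iff.2 fun p _ => (mem_stab P).2 (hn.conj_mem p p.2 (r 1))
    have h1 := h.first
    rw [this, Subgroup.index_top] at h1
    norm_num at h1
  rcases (inferInstance : (N.subgroupOf P).Normal).eq_bot_or_eq_top with hb | ht
  swap
  · rcases h.maximal (Subgroup.subgroupOf_eq_top.1 ht) with e | e
    · exact absurd (e ▸ hN) hnn
    · exact Or.inr e
  rcases h.maximal (le_sup_right : P ≤ N ⊔ P) with e | e
  · have hle : N ≤ P := e ▸ le_sup_left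
    rw [Subgroup.subgroupOf_eq_bot] at hb
    exact Or.inl (disjoint_self.1 (hb.mono_right hle))
  exfalso
  rw [Subgroup.subgroupOf_eq_bot] at hb
  have hinj : Function.Injective fun n : N => ((n : G) : G ⧸ P) := by
    intro a c e
    have h1 : (a : G)⁻¹ * c ∈ N ⊓ P := ⟨N.mul_mem (N.inv_mem a.2) c.2, QuotientGroup.eq.1 e⟩
    rw [hb.eq_bot, Subgroup.mem_bot, inv_mul_eq_one] at h1
    exact Subtype.ext h1
  have hsurj : Function.Surjective fun n : N => ((n : G) : G ⧸ P) := by
    intro x
    induction x using QuotientGroup.induction_on with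
    | H g =>
      have hg : g ∈ ((N ⊔ P : Subgroup G) : Set G) := by rw [e]; trivial
      rw [Subgroup.normal_mul] at hg
      obtain ⟨n, hn, p, hp, rfl⟩ := hg
      exact ⟨⟨n, hn⟩, QuotientGroup.eq.2 (by simpa using hp)⟩
  have hcN : Nat.card N = 8835156 := by
    rw [← hidx, Subgroup.index, Nat.card_eq_of_bijective _ ⟨hinj, hsurj⟩]
  have hord : ∀ a c : N, f ((a : G) : G ⧸ P) = f ((c : G) : G ⧸ P) →
      orderOf (a : G) = orderOf (c : G) := by
    intro a c e
    obtain ⟨p, hp⟩ := (hf _ _).1 e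
    have hc : (c : G) = p * a * (p : G)⁻¹ := by
      refine congrArg Subtype.val (hinj (a₁ := c) (a₂ := ⟨p * a * (p : G)⁻¹, hN.conj_mem a a.2 p⟩) ?_)
      refine hp.symm.trans (QuotientGroup.eq.2 ?_)
      simp [mul_assoc]
    rw [hc]
    exact ((MulAut.conj (p : G)).orderOf_eq a).symm
  let qs : Fin 5 → ℕ := ![2, 3, 11, 37, 67]
  have hqs : ∀ i, ∃ n : N, orderOf (n : G) = qs i := by
    intro i
    haveI : Fact (qs i).Prime := ⟨by fin_cases i <;> norm_num [qs]⟩
    obtain ⟨n, hn⟩ := exists_prime_orderOf_dvd_card' (G := N) (qs i) (by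
      rw [hcN]; fin_cases i <;> norm_num [qs])
    exact ⟨n, by rw [Subgroup.orderOf_coe, hn]⟩
  choose n hn using hqs
  let lab : Fin 5 → Fin 5 := fun i => f ((n i : G) : G ⧸ P)
  have hne : ∀ i, lab i ≠ 0 := by
    intro i h0
    have h1 := hord (n i) 1 (by simpa [lab] using h0.trans hf0.symm)
    rw [hn i, Subgroup.coe_one, orderOf_one] at h1
    revert h1; fin_cases i <;> norm_num [qs]
  have hinj' : Function.Injective lab := by
    intro i j e
    have h1 := hord _ _ e
    rw [hn i, hn j] at h1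
    revert h1
    fin_cases i <;> fin_cases j <;> norm_num [qs]
  obtain ⟨i, hi⟩ := (Finite.injective_iff_surjective.1 hinj') 0
  exact hne i hi

end Cfsg.Agent.Lib.CosetEnum.LyRep
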