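import Cfsg.Agent.Lib.CosetEnum.LyRep.Final

/-!
The exact stabilisers of the five suborbits of the presented Lyons group on the cosets of the image of
`P`, and the five double cosets are distinct.
-/

set_option autoImplicit false
set_option maxRecDepth 100000

namespace Cfsg.Agent.Lib.CosetEnum.LyRep

open Cfsg.Spor Cfsg.Agent.Lib.CosetEnum Cfsg.Agent.Lib.CosetEnum.LyP Cfsg.Agent.Lib.CosetEnum.LyP.Dce
open MulAction

/-- The point of a node among the cosets of the image of `P`. -/
noncomputable def node (i : Fin 5) : Ly ⧸ toLy.range := ((gLy i.1)⁻¹ : Ly)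

theorem index_stab_eq_and_inj :
    (∀ i : Fin 5, (stab toLy.range (gLy i.1)).index = bnd i) ∧
      ∀ i j : Fin 5, node j ∈ orbit toLy.range (node i) → i = j := by
  classical
  obtain ⟨-, -, f, hf, -, hcard⟩ := cover_ly.exists_label
  let σ : Fin 5 → Fin 5 := fun i => f (node i)
  have hcov : ∀ x, ∃ i, f x = σ i := by
    intro x
    induction x using QuotientGroup.induction_on with
    | H g =>
      obtain ⟨i, p, hp, q, hq, e⟩ := cover_ly.cover g⁻¹
      refine ⟨i, ((hf _ _).2 ?_).symm⟩
      refine ⟨⟨q⁻¹, toLy.range.inv_mem hq⟩, ?_⟩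
      show ((q⁻¹ * (gLy i.1)⁻¹ : Ly) : Ly ⧸ toLy.range) = _
      rw [QuotientGroup.eq]
      have : g = q⁻¹ * (gLy i.1)⁻¹ * p⁻¹ := by rw [← inv_inv g, e]; group
      rw [this]
      simpa [mul_assoc] using toLy.range.inv_mem hp
  have hsurj : Function.Surjective σ := by
    intro j
    have hne : Nat.card {x // f x = j} ≠ 0 := by rw [hcard j]; revert j; decide
    obtain ⟨⟨x, rfl⟩⟩ := (Nat.card_ne_zero.1 hne).1
    obtain ⟨i, hi⟩ := hcov x
    exact ⟨i, hi.symm⟩
  have hinj : Function.Injective σ := Finite.injective_iff_surjective.2 hsurj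
  have hidx : ∀ i, (stab toLy.range (gLy i.1)).index = bnd (σ i) := by
    intro i
    rw [← hcard, stab, MulAction.index_stabilizer, ← Nat.card_coe_set_eq]
    exact Nat.card_congr (Equiv.subtypeEquivRight fun y => by
      change y ∈ orbit toLy.range (node i) ↔ _
      rw [← hf, eq_comm])
  have hle : ∀ i, bnd (σ i) ≤ bnd i := by
    intro i
    rw [← hidx]
    have h := Subgroup.index_dvd_of_le (map_stab_le i.1 i.2)
    rw [index_map, index_stab i.1 i.2] at h
    refine le_trans (Nat.le_of_dvd ?_ h) (le_of_eq ?_) <;> fin_cases i <;> decide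
  have hsum : ∑ i, bnd (σ i) = ∑ i, bnd i :=
    Equiv.sum_comp (Equiv.ofBijective σ ⟨hinj, hsurj⟩) bnd
  refine ⟨fun i => ?_, fun i j h => hinj ((hf _ _).2 h)⟩
  rw [hidx]
  exact ((Finset.sum_eq_sum_iff_of_le fun k _ => hle k).1 hsum) i (Finset.mem_univ _)

/-- The stabiliser of a node is exactly the listed subgroup. -/
theorem stab_eq (i : ℕ) (hi : i < 5) :
    stab toLy.range (gLy i) = (fullCert.stab i).map toLy.rangeRestrict := by
  haveI : Finite toLy.range := inferInstance
  refine (Subgroup.eq_of_le_of_card_ge (map_stab_le i hi) ?_).symm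
  have h1 := (stab toLy.range (gLy i)).card_mul_index
  have h2 := ((fullCert.stab i).map toLy.rangeRestrict).card_mul_index
  rw [index_stab_eq_and_inj.1 ⟨i, hi⟩] at h1
  rw [index_map, index_stab i hi, ← h1] at h2
  have h : bnd ⟨i, hi⟩ = nodeIndex i := by interval_cases i <;> rfl
  rw [h] at h2
  refine le_of_eq (Nat.eq_of_mul_eq_mul_right ?_ h2.symm)
  interval_cases i <;> decide

end Cfsg.Agent.Lib.CosetEnum.LyRep
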