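import Cfsg.Agent.Lib.CosetEnum.LyRep.Facts

/-!
The five nontrivial double cosets of `K = P ∩ z⁻¹ P z` in `P`: for each
representative `y` the element `z⁻¹ y z` lies outside the image of `P`.
-/

set_option autoImplicit false
set_option maxRecDepth 100000
set_option Elab.async false

namespace Cfsg.Agent.Lib.CosetEnum.LyRep

/-- Representatives of the nontrivial double cosets of `K` in `P`, in the letters of `P`. -/
def sepWords : List (List ℕ) := [[2], [6], [2, 6], [6, 4, 6], [6, 4, 1, 2, 4, 6]]

theorem sep_test : (sepWords.all fun w =>
    !presTest (9 :: (w ++ [8])) && !presTest (8 :: (w ++ [9]))) = true := by decide +kernel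

theorem sep_notMem {w : List ℕ} (hw : w ∈ sepWords) :
    el (8 :: (w ++ [9])) ∉ LyP.toLy.range ∧ el (9 :: (w ++ [8])) ∉ LyP.toLy.range := by
  have hlt : ∀ v ∈ sepWords, ∀ g ∈ v, g < 10 := by decide
  have h := List.all_eq_true.1 sep_test w hw
  simp only [Bool.and_eq_true, Bool.not_eq_true'] at h
  constructor
  · refine notMem_range (fun g hg => ?_) h.2
    simp only [List.mem_cons, List.mem_append, List.not_mem_nil, or_false] at hg
    rcases hg with rfl | hg | rfl <;> first | omega | exact hlt w hw g hg
  · refine notMem_range (fun g hg => ?_) h.1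
    simp only [List.mem_cons, List.mem_append, List.not_mem_nil, or_false] at hg
    rcases hg with rfl | hg | rfl <;> first | omega | exact hlt w hw g hg

end Cfsg.Agent.Lib.CosetEnum.LyRep
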