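import Cfsg.Agent.Lib.CosetEnum.LyRep.Mat
import Cfsg.Agent.Lib.CosetEnum.LyRep.Rows
import Cfsg.Agent.Lib.CosetEnum.LyRep.Consts
import Cfsg.Agent.Lib.CosetEnum.LyRep.Img

/-!
The ten letters as invertible 111 by 111 matrices over `ZMod 5`, evaluation of words in the kernel, and the
test for a relator of the presented Lyons group.
-/

set_option autoImplicit false
set_option maxRecDepth 100000
set_option Elab.async false

namespace Cfsg.Agent.Lib.CosetEnum.LyRep

open Cfsg.Agent.Lib.CosetEnum Matrix

/-- The inverse letter. -/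
def flipL (g : ℕ) : ℕ := if g % 2 = 0 then g + 1 else g - 1

/-- The rows of a letter. -/
noncomputable def rowsOf : ℕ → List ℕ
  | 0 => rows0 | 1 => rows1 | 2 => rows2 | 3 => rows3 | 4 => rows4
  | 5 => rows5 | 6 => rows6 | 7 => rows7 | 8 => rows8 | _ => rows9

theorem rows_ok0 : rowsOK 111 rows0 = true := by decide +kernel

theorem rows_ok1 : rowsOK 111 rows1 = true := by decide +kernel

theorem rows_ok2 : rowsOK 111 rows2 = true := by decide +kernel

theorem rows_ok3 : rowsOK 111 rows3 = true := by decide +kernel

theorem rows_ok4 : rowsOK 111 rows4 = true := by decide +kernel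

theorem rows_ok5 : rowsOK 111 rows5 = true := by decide +kernel

theorem rows_ok6 : rowsOK 111 rows6 = true := by decide +kernel

theorem rows_ok7 : rowsOK 111 rows7 = true := by decide +kernel

theorem rows_ok8 : rowsOK 111 rows8 = true := by decide +kernel

theorem rows_ok9 : rowsOK 111 rows9 = true := by decide +kernel

theorem rows_ok (g : ℕ) : rowsOK 111 (rowsOf g) = true := by
  match g with
  | 0 => exact rows_ok0
  | 1 => exact rows_ok1
  | 2 => exact rows_ok2
  | 3 => exact rows_ok3
  | 4 => exact rows_ok4
  | 5 => exact rows_ok5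
  | 6 => exact rows_ok6
  | 7 => exact rows_ok7
  | 8 => exact rows_ok8
  | _ + 9 => exact rows_ok9

theorem colMask_eq : colMask = blk 111 (fun _ => W - 1) 111 := by decide +kernel

theorem rep_mul_pred (v : ℕ) : ∀ n : ℕ, rep v n * (W - 1) + v = v * W ^ n
  | 0 => by simp [rep, pk]
  | n + 1 => by
    have h := rep_mul_pred v n
    rw [rep, pk, show pk (fun _ => v) n = rep v n from rfl, pow_succ', ← mul_assoc v, mul_comm v W,
      mul_assoc W v, ← h]
    norm_num; ring

theorem rep_eq {v x n : ℕ} (h : Nat.beq (x * (W - 1) + v) (v * W ^ n) = true) : x = rep v n := by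
  rw [Nat.beq_eq, ← rep_mul_pred v n, Nat.add_right_cancel_iff] at h
  exact Nat.eq_of_mul_eq_mul_right (by norm_num) h

theorem masks_ok : masks.OK (111 * 111) :=
  ⟨rep_eq (by decide +kernel), rep_eq (by decide +kernel), rep_eq (by decide +kernel)⟩

theorem idN_lanes : (List.range 111).all (fun i => (List.range 111).all fun j =>
    Nat.beq (lane idN (i * 111 + j)) (bif Nat.beq i j then 1 else 0)) = true := by decide +kernel

theorem idN_mat : Small 111 idN ∧ toMat 111 idN = 1 := by
  have h := idN_lanes
  simp only [List.all_eq_true, List.mem_range, Nat.beq_eq] at h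
  refine ⟨fun t ht => ?_, ?_⟩
  · have := h (t / 111) (by omega) (t % 111) (Nat.mod_lt _ (by omega))
    rw [Nat.div_add_mod' t 111] at this
    rw [this]
    cases Nat.beq (t / 111) (t % 111) <;> decide
  · ext i j
    rw [toMat, h i.1 i.2 j.1 j.2, Matrix.one_apply]
    rcases eq_or_ne i j with rfl | hne
    · simp
    · have : Nat.beq i.1 j.1 = false := by
        rw [← Bool.not_eq_true, Nat.beq_eq]; exact Fin.val_ne_of_ne hne
      simp [this, hne]

/-- The matrix of a word, packed. -/
noncomputable def evalFrom (w : List ℕ) : ℕ → ℕ :=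
  List.rec (motive := fun _ => ℕ → ℕ) (fun X => X)
    (fun g _ ih X => force X fun X => ih (mulR masks colMask X (rowsOf g))) w

/-- The word evaluates to the identity. -/
noncomputable def isOne (w : List ℕ) : Bool := Nat.beq (evalFrom w idN) idN

/-- The matrix of a letter. -/
noncomputable def matL (g : ℕ) : Matrix (Fin 111) (Fin 111) (ZMod 5) :=
  rowMat 111 (rowsOf g)

theorem evalFrom_spec : ∀ (w : List ℕ) (X : ℕ), Small 111 X →
    Small 111 (evalFrom w X) ∧ toMat 111 (evalFrom w X) = toMat 111 X * (w.map matL).prod
  | [], X, h => by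
    refine ⟨h, ?_⟩
    rw [List.map_nil, List.prod_nil, mul_one]
    rfl
  | g :: w, X, h => by
    have hr : rowsOK 111 (rowsOf g) = true := rows_ok g
    obtain ⟨hs, hm⟩ := mulR_spec masks_ok (by norm_num) (by norm_num) colMask_eq hr h
    obtain ⟨hs', hm'⟩ := evalFrom_spec w _ hs
    have step : evalFrom (g :: w) X = evalFrom w (mulR masks colMask X (rowsOf g)) := by
      simp only [evalFrom, force_eq]
    rw [step]
    refine ⟨hs', ?_⟩
    rw [hm', hm, List.map_cons, List.prod_cons, mul_assoc, matL]

theorem prod_eq_one {w : List ℕ} (h : isOne w = true) : (w.map matL).prod = 1 := by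
  obtain ⟨-, hm⟩ := evalFrom_spec w idN idN_mat.1
  rw [isOne, Nat.beq_eq] at h
  rw [h, idN_mat.2, one_mul] at hm
  exact hm.symm

theorem letters_inv : (List.range 10).all (fun g => isOne [g, flipL g]) = true := by decide +kernel

/-- A letter as an invertible matrix. -/
noncomputable def unitL (g : ℕ) : (Matrix (Fin 111) (Fin 111) (ZMod 5))ˣ :=
  if hg : g < 10 then
    { val := matL g
      inv := matL (flipL g)
      val_inv := by
        have := prod_eq_one (List.all_eq_true.1 letters_inv g (List.mem_range.2 hg))
        simpa using this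
      inv_val := by
        have hf : flipL g < 10 := by unfold flipL; split <;> omega
        have he : flipL (flipL g) = g := by unfold flipL; split <;> split <;> omega
        have := prod_eq_one (List.all_eq_true.1 letters_inv _ (List.mem_range.2 hf))
        simpa [he] using this }
  else 1

/-- A word as an invertible matrix. -/
noncomputable def unitW (w : List ℕ) : (Matrix (Fin 111) (Fin 111) (ZMod 5))ˣ := (w.map unitL).prod

theorem unitW_eq_one {w : List ℕ} (hw : ∀ g ∈ w, g < 10) (h : isOne w = true) : unitW w = 1 := by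
  have hv : ∀ v : List ℕ, (∀ g ∈ v, g < 10) → ((unitW v : _) : Matrix (Fin 111) (Fin 111) (ZMod 5)) =
      (v.map matL).prod := by
    intro v hv
    induction v with
    | nil => simp [unitW]
    | cons g v ih =>
      have hg := hv g List.mem_cons_self
      rw [unitW, List.map_cons, List.prod_cons, Units.val_mul, List.map_cons, List.prod_cons,
        ← unitW, ih fun x hx => hv x (List.mem_cons_of_mem _ hx), unitL, dif_pos hg]
  exact Units.ext (by rw [hv w hw, prod_eq_one h, Units.val_one])

theorem unitL_flip {g : ℕ} (hg : g < 10) : unitL (flipL g) = (unitL g)⁻¹ := by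
  have hf : flipL g < 10 := by unfold flipL; split <;> omega
  refine eq_inv_of_mul_eq_one_right (Units.ext ?_)
  rw [Units.val_mul, unitL, dif_pos hg, unitL, dif_pos hf, Units.val_one]
  simpa using prod_eq_one (List.all_eq_true.1 letters_inv g (List.mem_range.2 hg))

/-- The inverse word. -/
def invW (w : List ℕ) : List ℕ := (w.map flipL).reverse

theorem unitW_invW : ∀ w : List ℕ, (∀ g ∈ w, g < 10) → unitW (invW w) = (unitW w)⁻¹
  | [], _ => by simp [unitW, invW]
  | g :: w, h => by
    have ih := unitW_invW w fun x hx => h x (List.mem_cons_of_mem _ hx)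
    simp only [unitW, invW, List.map_cons, List.reverse_cons, List.map_append, List.prod_append,
      List.prod_cons, List.map_nil, List.prod_nil, mul_one] at ih ⊢
    rw [ih, unitL_flip (h g List.mem_cons_self), _root_.mul_inv_rev]

/-- Cancel neighbouring inverse letters. -/
def cancelW : List ℕ → List ℕ
  | [] => []
  | g :: w =>
    match cancelW w with
    | [] => [g]
    | k :: r => bif Nat.beq k (flipL g) then r else g :: k :: r

theorem unitW_cancelW : ∀ w : List ℕ, (∀ g ∈ w, g < 10) →
    unitW (cancelW w) = unitW w ∧ ∀ g ∈ cancelW w, g < 10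
  | [], h => ⟨rfl, h⟩
  | g :: w, h => by
    obtain ⟨ih, hb⟩ := unitW_cancelW w fun x hx => h x (List.mem_cons_of_mem _ hx)
    have hg := h g List.mem_cons_self
    have e : unitW (g :: w) = unitL g * unitW w := by simp [unitW]
    simp only [cancelW]
    rw [e, ← ih]
    generalize cancelW w = v at hb ⊢
    match v, hb with
    | [], _ => simp [unitW, hg]
    | k :: r, hb =>
      cases hk : Nat.beq k (flipL g) with
      | true =>
        simp only [hk, cond_true]
        rw [Nat.beq_eq] at hk
        refine ⟨?_, fun x hx => hb x (List.mem_cons_of_mem _ hx)⟩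
        simp [unitW, hk, unitL_flip hg]
      | false =>
        simp only [hk, cond_false]
        refine ⟨by simp [unitW], fun x hx => ?_⟩
        rcases List.mem_cons.1 hx with rfl | hx
        · exact hg
        · exact hb x hx

/-- The letters of a signed generator. -/
def signed (p : Cfsg.Spor.Ly.Gen × Bool) : List ℕ := bif p.2 then img p.1 else invW (img p.1)

/-- The word of a relator. -/
def relWord (r : FreeGroup Cfsg.Spor.Ly.Gen) : List ℕ := cancelW (r.toWord.flatMap signed)

/-- The test of a relator. -/
noncomputable def relOK (i : ℕ) : Bool := isOne (relWord (Cfsg.Spor.Ly.extra.getD i 1))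

theorem img_lt : ∀ x : Cfsg.Spor.Ly.Gen, ∀ g ∈ img x, g < 10 := by
  intro x; cases x <;> decide

theorem signed_lt (p : Cfsg.Spor.Ly.Gen × Bool) : ∀ g ∈ signed p, g < 10 := by
  intro g hg
  obtain ⟨x, b⟩ := p
  cases b
  · simp only [signed, cond_false, invW, List.mem_reverse, List.mem_map] at hg
    obtain ⟨k, hk, rfl⟩ := hg
    have := img_lt x k hk
    unfold flipL; split <;> omega
  · exact img_lt x g hg

theorem lift_relWord (r : FreeGroup Cfsg.Spor.Ly.Gen) :
    FreeGroup.lift (fun x => unitW (img x)) r = unitW (relWord r) := by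
  have hlt : ∀ g ∈ r.toWord.flatMap signed, g < 10 := fun g hg => by
    obtain ⟨p, -, hp⟩ := List.mem_flatMap.1 hg
    exact signed_lt p g hp
  rw [relWord, (unitW_cancelW _ hlt).1]
  conv_lhs => rw [← FreeGroup.mk_toWord (x := r)]
  rw [FreeGroup.lift_mk]
  generalize r.toWord = l
  induction l with
  | nil => simp [unitW]
  | cons p l ih =>
    rw [List.map_cons, List.prod_cons, ih, List.flatMap_cons]
    simp only [unitW, List.map_append, List.prod_append]
    congr 1
    obtain ⟨x, b⟩ := p
    cases b
    · exact (unitW_invW _ (img_lt x)).symm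
    · rfl

theorem lift_eq_one {i : ℕ} (h : relOK i = true) :
    FreeGroup.lift (fun x => unitW (img x)) (Cfsg.Spor.Ly.extra.getD i 1) = 1 := by
  rw [lift_relWord]
  refine unitW_eq_one (unitW_cancelW _ fun g hg => ?_).2 h
  obtain ⟨p, -, hp⟩ := List.mem_flatMap.1 hg
  exact signed_lt p g hp

end Cfsg.Agent.Lib.CosetEnum.LyRep
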